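import Groth.Prelude.Def_KRR
import Groth.Prelude.Def_RDerDelta
import Groth.Prelude.Def_PicLoc
import Groth.Agent.Lib.CohDelta.AbComp
import Groth.Agent.Lib.ProjCoh.Coherent
import Groth.Agent.Lib.TensorMod.Pullback
import Groth.Agent.Lib.RDer.Connecting
import Groth.Agent.H34.HOne

/-!
# Relative regularity in short exact sequences
-/

set_option autoImplicit false
set_option linter.style.haveILetI false

noncomputable section

universe u

open CategoryTheory CategoryTheory.Limits AlgebraicGeometry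

namespace Groth.Agent.H73.RegSeq

open Groth.Agent.Lib TensorMod.Basic

variable {n : ℕ} {T : Scheme.{u}}

/-- `O(a) ⊗ O(b) ≅ O(a+b)` on `P^n_T`. -/
def overTensor (a b : ℤ) :
    CohB1.tensorMod (Twist.twistOver n T a) (Twist.twistOver n T b) ≅ Twist.twistOver n T (a + b) :=
  (TensorMod.Pullback.pullbackTensorIso _ _ _).symm ≪≫
    (Scheme.Modules.pullback _).mapIso (ProjCoh.Coherent.twTensor a b)

/-- `O(0) ≅ O`. -/
def overZero : Twist.twistOver n T 0 ≅ Coh.structureModule (KRR.PY n T) :=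
  (Scheme.Modules.pullback _).mapIso ProjCoh.Coherent.twZero ≪≫ PicLoc.pullbackStructureIso _

/-- `M(d)`. -/
abbrev tb (d : ℤ) : (KRR.PY n T).Modules ⥤ (KRR.PY n T).Modules := tensorBy (Twist.twistOver n T d)

instance isEquivalence_tb (d : ℤ) : (tb (n := n) (T := T) d).IsEquivalence :=
  (CategoryTheory.Equivalence.mk (tb d) (tb (-d))
    (ProjCoh.Coherent.cancelNat (overTensor d (-d) ≪≫ eqToIso (by rw [add_neg_cancel]) ≪≫ overZero)).symm
    (ProjCoh.Coherent.cancelNat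
      (overTensor (-d) d ≪≫ eqToIso (by rw [neg_add_cancel]) ≪≫ overZero))).isEquivalence_functor

instance additive_tb (d : ℤ) : (tb (n := n) (T := T) d).Additive :=
  Functor.additive_of_preserves_binary_products _

/-- The prelude twist is the tensor product. -/
def twFIso (d : ℤ) (F : (KRR.PY n T).Modules) : KRR.twF n T d F ≅ (tb d).obj F :=
  comm (Twist.twistOver n T d) F

/-- `F(a)(b) ≅ F(c)`. -/
def tbTb (a b c : ℤ) (h : a + b = c) (F : (KRR.PY n T).Modules) :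
    (tb b).obj ((tb a).obj F) ≅ (tb c).obj F :=
  assoc F _ _ ≪≫ tensorIso (Iso.refl F) (overTensor a b ≪≫ eqToIso (by rw [h]))

/-- The higher direct image of a module. -/
abbrev Rp (i : ℕ) (F : (KRR.PY n T).Modules) :=
  (Coh.RpushAb (KRR.pr n T) i).obj (Coh.toAb F)

theorem isZero_congr (i : ℕ) {F G : (KRR.PY n T).Modules} (e : F ≅ G) (h : IsZero (Rp i F)) :
    IsZero (Rp i G) :=
  h.of_iso ((Coh.RpushAb (KRR.pr n T) i).mapIso ((H34.HOne.ab _).mapIso e.symm))

theorem reg_iff (F : (KRR.PY n T).Modules) :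
    KRR.IsRegSheaf n T F ↔ ∀ i : ℕ, 1 ≤ i → IsZero (Rp i ((tb (-(i : ℤ))).obj F)) :=
  ⟨fun h i hi => isZero_congr i (twFIso _ _) (h i hi),
    fun h i hi => isZero_congr i (twFIso _ _).symm (h i hi)⟩

theorem reg_twF_iff (F : (KRR.PY n T).Modules) :
    KRR.IsRegSheaf n T (KRR.twF n T 1 F) ↔
      ∀ i : ℕ, 1 ≤ i → IsZero (Rp i ((tb (1 - (i : ℤ))).obj F)) := by
  rw [reg_iff]
  refine forall_congr' fun i => imp_congr_right fun _ => ?_
  have e : (tb (-(i : ℤ))).obj (KRR.twF n T 1 F) ≅ (tb (1 - (i : ℤ))).obj F :=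
    (tb _).mapIso (twFIso 1 F) ≪≫ tbTb _ _ _ (by ring) F
  exact ⟨isZero_congr i e, isZero_congr i e.symm⟩

variable (S : ShortComplex (KRR.PY n T).Modules) (hS : S.ShortExact)

/-- The long exact sequence of direct images. -/
def les : RDer.DerivedLES (Coh.pushAb (KRR.pr n T)) :=
  (RDer.Connecting.nonempty_derivedLES _).some

include hS

theorem seq_shortExact (d : ℤ) : ((S.map (tb d)).map (H34.HOne.ab _)).ShortExact :=
  H34.HOne.shortExact_toAb (hS.map_of_exact (tb d))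

theorem middle (d : ℤ) (i : ℕ) (h₁ : IsZero (Rp i ((tb d).obj S.X₁)))
    (h₃ : IsZero (Rp i ((tb d).obj S.X₃))) : IsZero (Rp i ((tb d).obj S.X₂)) :=
  ShortComplex.Exact.isZero_X₂ ((les (n := n) (T := T)).exact₂ _ (seq_shortExact S hS d) i)
    (h₁.eq_of_src _ _) (h₃.eq_of_tgt _ _)

theorem right (d : ℤ) (i : ℕ) (h₂ : IsZero (Rp i ((tb d).obj S.X₂)))
    (h₁ : IsZero (Rp (i + 1) ((tb d).obj S.X₁))) : IsZero (Rp i ((tb d).obj S.X₃)) :=
  ShortComplex.Exact.isZero_X₂ ((les (n := n) (T := T)).exact₃ _ (seq_shortExact S hS d) i (i + 1) rfl)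
    (h₂.eq_of_src _ _) (h₁.eq_of_tgt _ _)

theorem left (d : ℤ) (i : ℕ) (h₃ : IsZero (Rp i ((tb d).obj S.X₃)))
    (h₂ : IsZero (Rp (i + 1) ((tb d).obj S.X₂))) : IsZero (Rp (i + 1) ((tb d).obj S.X₁)) :=
  ShortComplex.Exact.isZero_X₂ ((les (n := n) (T := T)).exact₁ _ (seq_shortExact S hS d) i (i + 1) rfl)
    (h₃.eq_of_src _ _) (h₂.eq_of_tgt _ _)

theorem left_zero (hepi : Epi ((Scheme.Modules.pushforward (KRR.pr n T)).map S.g))
    (h₂ : IsZero (Rp 1 S.X₂)) : IsZero (Rp 1 S.X₁) := by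
  haveI := hepi
  have hS' : (S.map (H34.HOne.ab _)).ShortExact := H34.HOne.shortExact_toAb hS
  have hg : Epi ((Coh.pushAb (KRR.pr n T)).map (S.map (H34.HOne.ab _)).g) :=
    inferInstanceAs (Epi ((H34.HOne.ab T).map ((Scheme.Modules.pushforward (KRR.pr n T)).map S.g)))
  have hg0 : Epi (((Coh.pushAb (KRR.pr n T)).rightDerived 0).map (S.map (H34.HOne.ab _)).g) :=
    ((MorphismProperty.epimorphisms _).arrow_mk_iso_iff
      (Arrow.isoMk (((Coh.pushAb (KRR.pr n T)).rightDerivedZeroIsoSelf).app _)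
        (((Coh.pushAb (KRR.pr n T)).rightDerivedZeroIsoSelf).app _)
        (((Coh.pushAb (KRR.pr n T)).rightDerivedZeroIsoSelf).hom.naturality _).symm)).2 hg
  have hδ : (les (n := n) (T := T)).δ _ hS' 0 1 rfl = 0 := by
    rw [← cancel_epi (((Coh.pushAb (KRR.pr n T)).rightDerived 0).map (S.map (H34.HOne.ab _)).g),
      (les (n := n) (T := T)).comp_δ, comp_zero]
  exact ShortComplex.Exact.isZero_X₂ ((les (n := n) (T := T)).exact₁ _ hS' 0 1 rfl) hδ
    (h₂.eq_of_tgt _ _)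

end Groth.Agent.H73.RegSeq
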