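import Groth.Agent.Lib.Hypercov.CechHomotopy

/-!
# Any two refinements are simplicially homotopic on Cech nerves
-/

set_option autoImplicit false

universe w v u

open CategoryTheory Limits Opposite Simplicial

namespace Groth.Agent.H73.CechHtpy

variable {C : Type u} [Category.{v} C] [HasFiniteProducts C] {U V : FormalCoproduct.{w} C}

lemma power_hom_ext {W : FormalCoproduct.{w} C} {α : Type} [Finite α] {a b : W ⟶ V.power α}
    (h : ∀ i, a ≫ V.powerπ i = b ≫ V.powerπ i) : a = b :=
  Fan.IsLimit.hom_ext (V.isLimitPowerFan α) _ _ h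

set_option backward.defeqAttrib.useBackward true in
set_option backward.isDefEq.respectTransparency false in
lemma powerMap_π (f : U ⟶ V) {α : Type} [Finite α] (a : α) :
    FormalCoproduct.powerMap f α ≫ V.powerπ a = U.powerπ a ≫ f := by
  ext <;> simp

variable (f g : U ⟶ V)

/-- The components of the homotopy. -/
noncomputable def hcomp {n : ℕ} (i : Fin (n + 1)) (a : Fin (n + 2)) : U.power (Fin (n + 1)) ⟶ V :=
  U.powerπ (i.predAbove a) ≫ if (a : ℕ) ≤ (i : ℕ) then f else g

/-- The homotopy maps. -/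
noncomputable def hmap {n : ℕ} (i : Fin (n + 1)) : U.power (Fin (n + 1)) ⟶ V.power (Fin (n + 2)) :=
  Fan.IsLimit.desc (V.isLimitPowerFan (Fin (n + 2))) fun a => hcomp f g i a

lemma hmap_π {n : ℕ} (i : Fin (n + 1)) (a : Fin (n + 2)) :
    hmap f g i ≫ V.powerπ a = hcomp f g i a :=
  (V.isLimitPowerFan (Fin (n + 2))).fac _ ⟨a⟩

lemma val_predAbove {n : ℕ} (i : Fin (n + 1)) (a : Fin (n + 2)) :
    ((i.predAbove a : Fin (n + 1)) : ℕ) = if (a : ℕ) ≤ i then (a : ℕ) else (a : ℕ) - 1 := by
  simp [Fin.predAbove, Fin.lt_def]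
  split_ifs <;> simp <;> omega

lemma val_succAbove {n : ℕ} (i : Fin (n + 1)) (a : Fin n) :
    ((i.succAbove a : Fin (n + 1)) : ℕ) = if (a : ℕ) < i then (a : ℕ) else (a : ℕ) + 1 := by
  simp [Fin.succAbove, Fin.lt_def]
  split_ifs <;> simp

lemma hmap_δ_π {n : ℕ} (j : Fin (n + 1)) (i : Fin (n + 2)) (a : Fin (n + 1)) :
    hmap f g j ≫ SimplicialObject.δ V.cech i ≫ V.powerπ a = hcomp f g j (i.succAbove a) := by
  show hmap f g j ≫ V.mapPower _ ≫ V.powerπ a = _
  rw [FormalCoproduct.mapPower_π, hmap_π]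
  rfl

lemma hmap_σ_π {n : ℕ} (j : Fin (n + 1)) (i : Fin (n + 2)) (a : Fin (n + 3)) :
    hmap f g j ≫ SimplicialObject.σ V.cech i ≫ V.powerπ a = hcomp f g j (i.predAbove a) := by
  show hmap f g j ≫ V.mapPower _ ≫ V.powerπ a = _
  rw [FormalCoproduct.mapPower_π, hmap_π]
  rfl

lemma δ_hmap_π {n : ℕ} (j : Fin (n + 1)) (i : Fin (n + 2)) (a : Fin (n + 2)) :
    SimplicialObject.δ U.cech i ≫ hmap f g j ≫ V.powerπ a =
      U.powerπ (i.succAbove (j.predAbove a)) ≫ if (a : ℕ) ≤ (j : ℕ) then f else g := by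
  erw [hmap_π, hcomp]
  show U.mapPower _ ≫ _ = _
  rw [FormalCoproduct.mapPower_π_assoc]
  rfl

lemma σ_hmap_π {n : ℕ} (j : Fin (n + 2)) (i : Fin (n + 1)) (a : Fin (n + 3)) :
    SimplicialObject.σ U.cech i ≫ hmap f g j ≫ V.powerπ a =
      U.powerπ (i.predAbove (j.predAbove a)) ≫ if (a : ℕ) ≤ (j : ℕ) then f else g := by
  erw [hmap_π, hcomp]
  show U.mapPower _ ≫ _ = _
  rw [FormalCoproduct.mapPower_π_assoc]
  rfl

lemma comp_congr {n : ℕ} {p q : Fin (n + 1)} {P Q : Prop} [Decidable P] [Decidable Q]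
    (hpq : (p : ℕ) = q) (hPQ : P ↔ Q) :
    U.powerπ p ≫ (if P then f else g) = U.powerπ q ≫ (if Q then f else g) := by
  rw [Fin.ext hpq]
  simp only [hPQ]

lemma hcomp_last (n : ℕ) (a : Fin (n + 1)) :
    hcomp f g (Fin.last n) ((Fin.last (n + 1)).succAbove a) = U.powerπ a ≫ f := by
  rw [hcomp, Fin.succAbove_last, if_pos (by simp; omega)]
  congr 2
  apply Fin.ext
  simp

/-- The homotopy. -/
noncomputable def homotopy :
    SimplicialObject.Homotopy (FormalCoproduct.cechFunctor.map f) (FormalCoproduct.cechFunctor.map g) where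
  h i := hmap f g i
  h_zero_comp_δ_zero n := power_hom_ext fun a => by
    refine (Category.assoc _ _ _).trans ((hmap_δ_π f g 0 0 a).trans ?_)
    refine Eq.trans ?_ (powerMap_π g a).symm
    rw [hcomp, if_neg (by simp)]
    congr 2
  h_last_comp_δ_last n := power_hom_ext fun a => by
    refine (Category.assoc _ _ _).trans ((hmap_δ_π f g _ _ a).trans ?_)
    refine Eq.trans ?_ (powerMap_π f a).symm
    exact hcomp_last f g n a
  h_succ_comp_δ_castSucc_of_lt i j hij := power_hom_ext fun a => by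
    refine (Category.assoc _ _ _).trans ((hmap_δ_π f g _ _ a).trans ?_)
    refine Eq.trans ?_ ((Category.assoc _ _ _).trans (δ_hmap_π f g j i a)).symm
    refine comp_congr f g ?_ ?_
    all_goals
      simp only [val_predAbove, val_succAbove, Fin.val_succ, Fin.val_castSucc, Fin.le_def] at *
      grind
  h_succ_comp_δ_castSucc_succ j := power_hom_ext fun a => by
    refine (Category.assoc _ _ _).trans ((hmap_δ_π f g _ _ a).trans ?_)
    refine Eq.trans ?_ ((Category.assoc _ _ _).trans (hmap_δ_π f g _ _ a)).symm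
    refine comp_congr f g ?_ ?_
    all_goals
      simp only [val_predAbove, val_succAbove, Fin.val_succ, Fin.val_castSucc, Fin.le_def] at *
      grind
  h_castSucc_comp_δ_succ_of_lt i j hji := power_hom_ext fun a => by
    refine (Category.assoc _ _ _).trans ((hmap_δ_π f g _ _ a).trans ?_)
    refine Eq.trans ?_ ((Category.assoc _ _ _).trans (δ_hmap_π f g j i a)).symm
    refine comp_congr f g ?_ ?_
    all_goals
      simp only [val_predAbove, val_succAbove, Fin.val_succ, Fin.val_castSucc, Fin.lt_def] at *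
      grind
  h_comp_σ_castSucc_of_le i j hij := power_hom_ext fun a => by
    refine (Category.assoc _ _ _).trans ((hmap_σ_π f g _ _ a).trans ?_)
    refine Eq.trans ?_ ((Category.assoc _ _ _).trans (σ_hmap_π f g _ i a)).symm
    refine comp_congr f g ?_ ?_
    all_goals
      simp only [val_predAbove, Fin.val_succ, Fin.val_castSucc, Fin.le_def] at *
      grind
  h_comp_σ_succ_of_lt i j hji := power_hom_ext fun a => by
    refine (Category.assoc _ _ _).trans ((hmap_σ_π f g _ _ a).trans ?_)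
    refine Eq.trans ?_ ((Category.assoc _ _ _).trans (σ_hmap_π f g _ i a)).symm
    refine comp_congr f g ?_ ?_
    all_goals
      simp only [val_predAbove, Fin.val_succ, Fin.val_castSucc, Fin.le_def] at *
      grind

end Groth.Agent.H73.CechHtpy
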