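import Groth.Agent.Lib.FPFunctor.Basic

/-!
# Right exact functors on finitely presented modules are determined by their value on the ring
-/

set_option autoImplicit false

universe u v' u'

namespace Groth.Agent.H73.FPDet

open CategoryTheory CategoryTheory.Limits Groth.FPFunctor

variable {A : Type u} [CommRing A] {B : Type u'} [Category.{v'} B] [Preadditive B] [HasFiniteBiproducts B]
  (F : FP A ⥤ B) [PreservesFiniteColimits F]

/-- The morphism given by a linear map. -/
abbrev mor {M N : Type u} [AddCommGroup M] [Module A M] [AddCommGroup N] [Module A N]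
    [Module.FinitePresentation A M] [Module.FinitePresentation A N] (f : M →ₗ[A] N) :
    fp (A := A) M ⟶ fp (A := A) N :=
  ObjectProperty.homMk (ModuleCat.ofHom f)

/-- The morphism picking an element. -/
abbrev el {M : FP A} (m : M.obj) : fp (A := A) A ⟶ M :=
  ObjectProperty.homMk (ModuleCat.ofHom (LinearMap.toSpanSingleton A M.obj m))

theorem el_comp {M N : FP A} (m : M.obj) (f : M ⟶ N) : el m ≫ f = el (f.hom.hom m) :=
  ObjectProperty.hom_ext _ (ModuleCat.hom_ext (LinearMap.ext_ring (by simp)))

instance additive : F.Additive :=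
  haveI : PreservesBinaryBiproducts F := preservesBinaryBiproducts_of_preservesBinaryCoproducts F
  Functor.additive_of_preservesBinaryBiproducts F

/-- The action of the ring on the value. -/
def act : A →+* End (F.obj (fp A)) where
  toFun a := F.map (mor (LinearMap.lsmul A A a))
  map_one' := (congrArg F.map (ObjectProperty.hom_ext _ (ModuleCat.hom_ext (LinearMap.ext fun x => one_mul x)))).trans
    (F.map_id _)
  map_mul' a b := by
    rw [End.mul_def, ← F.map_comp]
    exact congrArg F.map (ObjectProperty.hom_ext _ (ModuleCat.hom_ext (LinearMap.ext fun x => mul_assoc a b x)))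
  map_zero' := (congrArg F.map (show mor (LinearMap.lsmul A A (0 : A)) = 0 from
    ObjectProperty.hom_ext _ (ModuleCat.hom_ext (LinearMap.ext fun x => zero_mul x)))).trans
    (F.map_zero _ _)
  map_add' a b := by
    change _ = F.map _ + F.map _
    rw [← F.map_add]
    exact congrArg F.map (ObjectProperty.hom_ext _ (ModuleCat.hom_ext (LinearMap.ext fun x => add_mul a b x)))

theorem act_el {M : FP A} (a : A) (m : M.obj) : act F a ≫ F.map (el m) = F.map (el (a • m)) := by
  change F.map (mor _) ≫ F.map (el m) = _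
  rw [← F.map_comp]
  exact congrArg F.map (ObjectProperty.hom_ext _ (ModuleCat.hom_ext (LinearMap.ext_ring (by
    show (a * 1 : A) • m = (1 : A) • a • m
    rw [mul_one, one_smul]))))

/-- `m ↦ F(m)`. -/
def η (M : FP A) : M.obj →ₗ[A] HomM (act F) (F.obj M) where
  toFun m := HomM.mk _ (F.map (el m))
  map_add' m m' := by
    refine (congrArg F.map (?_ : el (m + m') = el m + el m')).trans F.map_add
    exact ObjectProperty.hom_ext _ (ModuleCat.hom_ext (LinearMap.ext_ring (by
      show (1 : A) • (m + m') = (1 : A) • m + (1 : A) • m'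
      rw [smul_add])))
  map_smul' a m := (act_el F a m).symm

theorem free_exists (n : ℕ) {X : B} (g : (Fin n → A) →ₗ[A] HomM (act F) X) :
    ∃ d : F.obj (fp (Fin n → A)) ⟶ X, ∀ v, (η F (fp (Fin n → A)) v).out ≫ d = (g v).out := by
  refine ⟨∑ i : Fin n, F.map (mor (LinearMap.proj i)) ≫ (g (Pi.single i 1)).out, fun v => ?_⟩
  have hv : v = ∑ i : Fin n, v i • (Pi.single i (1 : A) : Fin n → A) := by
    ext j
    simp [Pi.single_apply]
  conv_rhs => rw [hv, map_sum]
  rw [Preadditive.comp_sum]
  refine Finset.sum_congr rfl fun i _ => ?_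
  rw [map_smul]
  show _ = act F (v i) ≫ (g (Pi.single i 1)).out
  rw [← Category.assoc]
  refine congrArg (· ≫ _) ((F.map_comp _ _).symm.trans (congrArg F.map ?_))
  exact ObjectProperty.hom_ext _ (ModuleCat.hom_ext (LinearMap.ext_ring (by
    show ((1 : A) • v) i = v i * 1
    rw [one_smul, mul_one])))

theorem free_ext (n : ℕ) {X : B} {f g : F.obj (fp (A := A) (Fin n → A)) ⟶ X}
    (h : ∀ v : Fin n → A, F.map (el (M := fp (Fin n → A)) v) ≫ f = F.map (el (M := fp (Fin n → A)) v) ≫ g) :
    f = g := by
  have hid : 𝟙 (fp (A := A) (Fin n → A)) =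
      ∑ i : Fin n, mor (LinearMap.proj i) ≫ el (M := fp (Fin n → A)) (Pi.single i (1 : A)) := by
    refine ObjectProperty.hom_ext _ (ModuleCat.hom_ext (LinearMap.ext fun v => ?_))
    have : (∑ i : Fin n, mor (LinearMap.proj (R := A) (φ := fun _ : Fin n => A) i) ≫
        el (M := fp (Fin n → A)) (Pi.single i (1 : A))).hom.hom v =
        ∑ i : Fin n, v i • (Pi.single i (1 : A) : Fin n → A) := by
      change ModuleCat.Hom.hom ((ObjectProperty.ι (fun M : ModuleCat.{u} A => Module.FinitePresentation A M)).map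
        (∑ i : Fin n, mor (LinearMap.proj (R := A) (φ := fun _ : Fin n => A) i) ≫
          el (M := fp (Fin n → A)) (Pi.single i (1 : A)))) v = _
      rw [Functor.map_sum, ModuleCat.hom_sum, LinearMap.sum_apply]
      rfl
    refine Eq.trans ?_ this.symm
    ext j
    simp [Pi.single_apply]
  rw [← Category.id_comp f, ← Category.id_comp g, ← F.map_id, hid, Functor.map_sum,
    Preadditive.sum_comp, Preadditive.sum_comp]
  exact Finset.sum_congr rfl fun i _ => by rw [F.map_comp, Category.assoc, Category.assoc, h]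

theorem exists_presentation (M : FP A) :
    ∃ (n m : ℕ) (r : fp (A := A) (Fin m → A) ⟶ fp (Fin n → A)) (π : fp (A := A) (Fin n → A) ⟶ M)
      (w : r ≫ π = 0), Nonempty (IsColimit (CokernelCofork.ofπ π w)) := by
  obtain ⟨n, f, hf⟩ := Module.Finite.exists_fin' A M.obj
  haveI := Module.Finite.of_fg (Module.FinitePresentation.fg_ker f hf)
  obtain ⟨m, s, hs⟩ := Module.Finite.exists_fin' A (LinearMap.ker f)
  refine ⟨n, m, mor ((LinearMap.ker f).subtype ∘ₗ s), ObjectProperty.homMk (ModuleCat.ofHom f),
    ObjectProperty.hom_ext _ (ModuleCat.hom_ext (LinearMap.ext fun x => (s x).2)), ?_⟩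
  have hr : LinearMap.range ((LinearMap.ker f).subtype ∘ₗ s) = LinearMap.ker f := by
    rw [LinearMap.range_comp, LinearMap.range_eq_top.2 hs, Submodule.map_top, Submodule.range_subtype]
  let e := (LinearMap.quotKerEquivOfSurjective f hf).symm.trans (Submodule.quotEquivOfEq _ _ hr.symm)
  refine ⟨CokernelCofork.IsColimit.ofπ _ _
    (fun g hg => ObjectProperty.homMk (ModuleCat.ofHom (Submodule.liftQ _ g.hom.hom
      (LinearMap.range_le_ker_iff.mpr (congrArg (fun φ => φ.hom.hom) hg)) ∘ₗ e.toLinearMap)))
    (fun g hg => ObjectProperty.hom_ext _ (ModuleCat.hom_ext (LinearMap.ext fun x => ?_)))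
    (fun g hg k hk => ObjectProperty.hom_ext _ (ModuleCat.hom_ext (LinearMap.ext fun y => ?_)))⟩
  · have he : e (f x) = Submodule.Quotient.mk x := by
      apply e.symm.injective
      rw [LinearEquiv.symm_apply_apply]
      rfl
    change Submodule.liftQ _ g.hom.hom (LinearMap.range_le_ker_iff.mpr (congrArg (fun φ => φ.hom.hom) hg)) (e (f x)) = g.hom.hom x
    rw [he]
    rfl
  · obtain ⟨x, rfl⟩ := hf y
    have he : e (f x) = Submodule.Quotient.mk x := by
      apply e.symm.injective
      rw [LinearEquiv.symm_apply_apply]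
      rfl
    refine (congrArg (fun φ => φ.hom.hom x) hk).trans ?_
    change g.hom.hom x = Submodule.liftQ _ g.hom.hom (LinearMap.range_le_ker_iff.mpr (congrArg (fun φ => φ.hom.hom) hg)) (e (f x))
    rw [he]
    rfl

theorem ext (M : FP A) {X : B} {f g : F.obj M ⟶ X}
    (h : ∀ m : M.obj, F.map (el m) ≫ f = F.map (el m) ≫ g) : f = g := by
  obtain ⟨n, m, r, π, w, ⟨hπ⟩⟩ := exists_presentation M
  have hc := CokernelCofork.mapIsColimit _ hπ F
  apply Cofork.IsColimit.hom_ext hc
  change F.map π ≫ f = F.map π ≫ g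
  refine free_ext F n fun v => ?_
  rw [← F.map_comp_assoc, ← F.map_comp_assoc, el_comp, h]

theorem desc (M : FP A) {X : B} (g : M.obj →ₗ[A] HomM (act F) X) :
    ∃ d : F.obj M ⟶ X, ∀ m : M.obj, F.map (el m) ≫ d = (g m).out := by
  obtain ⟨n, m, r, π, w, ⟨hπ⟩⟩ := exists_presentation M
  obtain ⟨d, hd⟩ := free_exists F n (g ∘ₗ π.hom.hom)
  have hd0 : F.map r ≫ d = 0 := free_ext F m fun v => by
    rw [← F.map_comp_assoc, el_comp, comp_zero]
    refine (hd _).trans ?_
    change (g (π.hom.hom (r.hom.hom v))).out = 0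
    have : π.hom.hom (r.hom.hom v) = 0 := congrArg (fun φ => φ.hom.hom v) w
    rw [this, map_zero]
    rfl
  have hc := CokernelCofork.mapIsColimit _ hπ F
  obtain ⟨e, he⟩ := CokernelCofork.IsColimit.desc' hc d hd0
  refine ⟨e, fun x => ?_⟩
  obtain ⟨v, rfl⟩ : ∃ v, π.hom.hom v = x := by
    have : Epi π := ⟨fun a b hab => Cofork.IsColimit.hom_ext hπ hab⟩
    obtain ⟨n', f', hf'⟩ := Module.Finite.exists_fin' A M.obj
    by_contra hne
    push Not at hne
    let Q := M.obj ⧸ LinearMap.range π.hom.hom
    haveI : Module.FinitePresentation A Q := Module.finitePresentation_of_surjective _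
      (Submodule.mkQ_surjective _) (by
        rw [Submodule.ker_mkQ]
        exact LinearMap.range_eq_map π.hom.hom ▸ (Module.Finite.fg_top).map _)
    have h0 : (ObjectProperty.homMk (ModuleCat.ofHom (Submodule.mkQ (LinearMap.range π.hom.hom))) : M ⟶ fp Q) = 0 := by
      rw [← cancel_epi π, comp_zero]
      exact ObjectProperty.hom_ext _ (ModuleCat.hom_ext (LinearMap.ext fun v =>
        (Submodule.Quotient.mk_eq_zero _).mpr ⟨v, rfl⟩))
    obtain ⟨v, hv⟩ := (Submodule.Quotient.mk_eq_zero _).mp (congrArg (fun φ => φ.hom.hom x) h0)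
    exact hne v hv
  change F.map π ≫ e = d at he
  refine Eq.trans ?_ (hd v)
  rw [← he, ← el_comp]
  exact F.map_comp_assoc _ _ _

end Groth.Agent.H73.FPDet
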