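import Mathlib.Algebra.Group.ForwardDiff
import Mathlib.RingTheory.Polynomial.Pochhammer
import Mathlib.Algebra.Polynomial.Roots
import Mathlib.RingTheory.Coprime.Lemmas
import Mathlib.Tactic

/-!
# Coefficients of polynomials with integral values on rationals of an interval
-/

set_option autoImplicit false

namespace Groth.Agent.H73.IntVal

open Polynomial

/-- A polynomial of degree `≤ g` with integral values at `g + 1` consecutive integers has
integral coefficients after multiplication by `g!`. -/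
theorem exists_int_poly {g : ℕ} {R : ℚ[X]} (hR : R.natDegree ≤ g) (a₀ : ℤ)
    (h : ∀ n : ℕ, n ≤ g → ∃ z : ℤ, R.eval ((a₀ : ℚ) + n) = z) :
    ∃ W : ℤ[X], W.map (Int.castRingHom ℚ) = C (g.factorial : ℚ) * R := by
  classical
  choose! z hz using h
  let d : ℕ → ℤ := fun k => (fwdDiff (1 : ℕ))^[k] z 0
  let T : ℚ[X] := R.comp (X + C (a₀ : ℚ))
  let S : ℚ[X] := ∑ k ∈ Finset.range (g + 1),
    C ((d k : ℚ) / (k.factorial : ℚ)) * descPochhammer ℚ k
  have hT : T.natDegree ≤ g := by
    have := natDegree_comp_le (p := R) (q := X + C (a₀ : ℚ))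
    rw [natDegree_X_add_C, mul_one] at this
    exact this.trans hR
  have hS : S.natDegree ≤ g := by
    refine natDegree_sum_le_of_forall_le _ _ fun k hk => (natDegree_C_mul_le _ _).trans ?_
    rw [descPochhammer_natDegree]
    exact Nat.lt_succ_iff.mp (Finset.mem_range.mp hk)
  have hval : ∀ n, n ≤ g → T.eval (n : ℚ) = S.eval (n : ℚ) := by
    intro n hn
    have h1 : T.eval (n : ℚ) = (z n : ℚ) := by
      rw [← hz n hn]
      simp only [T, eval_comp, eval_add, eval_X, eval_C]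
      rw [add_comm]
    have h2 := shift_eq_sum_fwdDiff_iter (1 : ℕ) z n 0
    simp only [smul_eq_mul, mul_one, zero_add] at h2
    rw [h1, h2]
    push_cast
    rw [eval_finsetSum, ← Finset.sum_subset (Finset.range_mono (Nat.add_le_add_right hn 1)) ?_]
    · refine Finset.sum_congr rfl fun k _ => ?_
      rw [eval_mul, eval_C, descPochhammer_eval_eq_descFactorial,
        Nat.descFactorial_eq_factorial_mul_choose, nsmul_eq_mul]
      have : (k.factorial : ℚ) ≠ 0 := by positivity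
      push_cast
      field_simp
      simp only [d]
    · intro k _ hk
      rw [eval_mul, descPochhammer_eval_eq_descFactorial,
        Nat.descFactorial_eq_zero_iff_lt.mpr (by simp at hk; omega), Nat.cast_zero, mul_zero]
  have hTS : T = S := by
    refine eq_of_natDegree_lt_card_of_eval_eq T S
      (f := fun n : Fin (g + 1) => ((n : ℕ) : ℚ)) ?_ (fun n => hval n (Nat.lt_succ_iff.mp n.isLt)) ?_
    · exact fun a b hab => Fin.ext (Nat.cast_injective hab)
    · rw [Fintype.card_fin]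
      omega
  refine ⟨(∑ k ∈ Finset.range (g + 1),
    C (d k * ((g.factorial / k.factorial : ℕ) : ℤ)) * descPochhammer ℤ k).comp (X - C a₀), ?_⟩
  have hmap : (∑ k ∈ Finset.range (g + 1),
      C (d k * ((g.factorial / k.factorial : ℕ) : ℤ)) * descPochhammer ℤ k).map (Int.castRingHom ℚ) =
        C (g.factorial : ℚ) * S := by
    rw [Polynomial.map_sum, Finset.mul_sum]
    refine Finset.sum_congr rfl fun k hk => ?_
    rw [Polynomial.map_mul, map_C, descPochhammer_map, ← mul_assoc, ← C_mul]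
    congr 2
    have hdvd : k.factorial ∣ g.factorial :=
      Nat.factorial_dvd_factorial (Nat.lt_succ_iff.mp (Finset.mem_range.mp hk))
    have : (k.factorial : ℚ) ≠ 0 := by positivity
    simp only [eq_intCast, Int.cast_mul, Int.cast_natCast]
    rw [Nat.cast_div hdvd this]
    field_simp
  rw [map_comp, hmap, ← hTS, Polynomial.map_sub, map_X, map_C, mul_comp, C_comp]
  simp only [T, comp_assoc, add_comp, X_comp, C_comp, eq_intCast, sub_add_cancel, comp_X]

/-- Integrality of `g! b ^ N c_j` from integral values of `b ^ N Q (a / b)`. -/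
theorem exists_int_mul_pow {g N : ℕ} {Q : ℚ[X]} (hQ : Q.natDegree ≤ g) {u v : ℚ} {b : ℕ}
    (hb : 0 < b) (hlong : (g : ℚ) + 1 < b * (v - u))
    (h : ∀ a : ℤ, u < (a : ℚ) / b → (a : ℚ) / b < v →
      ∃ z : ℤ, (b : ℚ) ^ N * Q.eval ((a : ℚ) / b) = z) (j : ℕ) :
    ∃ z : ℤ, (g.factorial : ℚ) * Q.coeff j * (b : ℚ) ^ N = z := by
  have hb' : (0 : ℚ) < b := by exact_mod_cast hb
  let R : ℚ[X] := C ((b : ℚ) ^ N) * Q.comp (C (1 / (b : ℚ)) * X)
  have hR : R.natDegree ≤ g := by
    refine (natDegree_C_mul_le _ _).trans (natDegree_comp_le.trans ?_)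
    calc Q.natDegree * (C (1 / (b : ℚ)) * X).natDegree ≤ g * 1 :=
          Nat.mul_le_mul hQ ((natDegree_C_mul_le _ _).trans natDegree_X.le)
      _ = g := mul_one g
  obtain ⟨W, hW⟩ := exists_int_poly hR (⌊u * b⌋ + 1) (fun n hn => by
    have hn' : (n : ℚ) ≤ g := by exact_mod_cast hn
    have h1 := Int.floor_le (u * b)
    have h2 := Int.lt_floor_add_one (u * b)
    have h3 : (0 : ℚ) ≤ n := Nat.cast_nonneg n
    obtain ⟨z, hz⟩ := h (⌊u * b⌋ + 1 + (n : ℤ))
      (by rw [lt_div_iff₀ hb']; push_cast; linarith)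
      (by rw [div_lt_iff₀ hb']; push_cast; nlinarith)
    refine ⟨z, ?_⟩
    rw [← hz]
    simp only [R, eval_mul, eval_C, eval_comp, eval_X]
    push_cast
    rw [one_div_mul_eq_div])
  refine ⟨W.coeff j * (b : ℤ) ^ j, ?_⟩
  have := congrArg (fun p : ℚ[X] => p.coeff j) hW
  simp only [coeff_map, eq_intCast, coeff_C_mul, R, comp_C_mul_X_coeff] at this
  push_cast
  rw [this, one_div, inv_pow]
  field_simp

theorem exists_int {g N : ℕ} {Q : ℚ[X]} (hQ : Q.natDegree ≤ g) {u v : ℚ} (huv : u < v)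
    (h : ∀ (a : ℤ) (b : ℕ), 0 < b → u < (a : ℚ) / b → (a : ℚ) / b < v →
      ∃ z : ℤ, (b : ℚ) ^ N * Q.eval ((a : ℚ) / b) = z) (j : ℕ) :
    ∃ z : ℤ, (g.factorial : ℚ) * Q.coeff j = z := by
  obtain ⟨b, hb⟩ := exists_nat_gt (((g : ℚ) + 1) / (v - u))
  have hpos : 0 < v - u := sub_pos.mpr huv
  have hb' : (g : ℚ) + 1 < b * (v - u) := (div_lt_iff₀ hpos).mp hb
  have hb0 : 0 < b := by
    rcases Nat.eq_zero_or_pos b with h0 | h0
    · subst h0
      have h3 : (0 : ℚ) ≤ g := Nat.cast_nonneg g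
      simp at hb'
      linarith
    · exact h0
  obtain ⟨z₁, hz₁⟩ := exists_int_mul_pow hQ hb0 hb' (fun a => h a b hb0) j
  obtain ⟨z₂, hz₂⟩ := exists_int_mul_pow hQ b.succ_pos
    (by push_cast; nlinarith) (fun a => h a (b + 1) b.succ_pos) j
  have hcop : IsCoprime ((b : ℤ) ^ N) (((b : ℤ) + 1) ^ N) :=
    IsCoprime.pow ⟨-1, 1, by ring⟩
  obtain ⟨x, y, hxy⟩ := hcop
  refine ⟨x * z₁ + y * z₂, ?_⟩
  have hxy' : (x : ℚ) * (b : ℚ) ^ N + (y : ℚ) * ((b : ℚ) + 1) ^ N = 1 := by exact_mod_cast hxy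
  push_cast at hz₂ ⊢
  rw [← hz₁, ← hz₂]
  linear_combination (-((g.factorial : ℚ) * Q.coeff j)) * hxy'

end Groth.Agent.H73.IntVal
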